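import Groth.Agent.PurBirLib.Qf

/-! Consequences: finite, radicial, or flat birational morphisms. -/

set_option autoImplicit false
set_option maxHeartbeats 400000
universe u

noncomputable section

open CategoryTheory AlgebraicGeometry TopologicalSpace

namespace PurBirLib

variable {X Y : Scheme.{u}} [IsIntegral X] [IsIntegral Y] (g : X ⟶ Y)

theorem bir_of_residue (hgen : g (genericPoint X) = genericPoint Y)
    (hbir : Function.Bijective (g.residueFieldMap (genericPoint X)).hom) : Bir g := by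
  refine ⟨hgen, ?_⟩
  have hY : IsField (Y.presheaf.stalk (g (genericPoint X))) := by
    rw [hgen]
    exact Field.toIsField Y.functionField
  letI := hY.toField
  have hX : IsField (X.presheaf.stalk (genericPoint X)) := Field.toIsField X.functionField
  refine (ConcreteCategory.isIso_iff_bijective _).2 ⟨RingHom.injective (g.stalkMap _).hom, fun b => ?_⟩
  obtain ⟨c, hc⟩ := hbir.2 (X.residue _ b)
  obtain ⟨a, rfl⟩ := Y.residue_surjective _ c
  refine ⟨a, ?_⟩
  have hres := Scheme.residue_residueFieldMap g (genericPoint X)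
  have h1 : X.residue (genericPoint X) (g.stalkMap (genericPoint X) a) = X.residue (genericPoint X) b := by
    rw [← hc, ← CommRingCat.comp_apply, ← hres]; rfl
  have h2 : g.stalkMap (genericPoint X) a - b ∈ IsLocalRing.maximalIdeal _ := by
    rw [← IsLocalRing.residue_eq_zero_iff, map_sub, sub_eq_zero]
    exact h1
  rw [IsLocalRing.isField_iff_maximalIdeal_eq.1 hX, Ideal.mem_bot, sub_eq_zero] at h2
  exact h2

/-- An affine birational morphism is an isomorphism if over each affine open it is surjective on sections. -/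
theorem isIso_of_app_surjective [IsAffineHom g] (h : Bir g)
    (hs : ∀ U : Y.Opens, IsAffineOpen U → ∀ x : Γ(X, g ⁻¹ᵁ U), genericPoint Y ∈ U →
      ∀ hξ : genericPoint X ∈ g ⁻¹ᵁ U,
        ∃ a : Γ(Y, U), g.app U a = x) : IsIso g := by
  let S : Set Y.Opens := {U | IsAffineOpen U ∧ (U : Set Y).Nonempty}
  have hS : ⨆ U : S, (U : Y.Opens) = ⊤ := by
    rw [eq_top_iff]
    intro y _
    obtain ⟨U, hU, hyU, -⟩ := exists_isAffineOpen_mem_and_subset (x := y) (U := ⊤) trivial
    exact Opens.mem_iSup.2 ⟨⟨U, hU, y, hyU⟩, hyU⟩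
  refine (MorphismProperty.isomorphisms.iff (C := Scheme.{u}) (f := g)).1
    ((IsZariskiLocalAtTarget.iff_of_iSup_eq_top (P := MorphismProperty.isomorphisms Scheme.{u})
      (fun U : S => (U : Y.Opens)) hS).2 ?_)
  rintro ⟨U, hU, hne⟩
  show IsIso (g ∣_ U)
  have hη : genericPoint Y ∈ U := ((genericPoint_spec Y).mem_open_set_iff U.2).2 (by simpa using hne)
  have hξ : genericPoint X ∈ g ⁻¹ᵁ U := by show g (genericPoint X) ∈ U; rw [h.1]; exact hη
  haveI : Nonempty U := ⟨⟨_, hη⟩⟩
  haveI : Nonempty (g ⁻¹ᵁ U) := ⟨⟨_, hξ⟩⟩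
  have hV : IsAffineOpen (g ⁻¹ᵁ U) := hU.preimage g
  haveI : IsIso (g.app U) := by
    rw [ConcreteCategory.isIso_iff_bijective]
    refine ⟨fun a b hab => ?_, fun x => hs U hU x hη hξ⟩
    have hinj := stalkMap_injective g h (genericPoint X)
    have hgerm : Function.Injective (Y.presheaf.germ U (g (genericPoint X)) (show g (genericPoint X) ∈ U from hξ)) :=
      germ_injective_of_isIntegral _ _ _
    refine hgerm (hinj ?_)
    show g.stalkMap _ _ = g.stalkMap _ _
    rw [Scheme.Hom.germ_stalkMap_apply, Scheme.Hom.germ_stalkMap_apply, hab]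
  haveI : IsAffine (g ⁻¹ᵁ U : Scheme.{u}) := hV
  haveI : IsAffine (U : Scheme.{u}) := hU
  have happ : ∀ U' : Y.Opens, U' = U → IsIso (g.app U') := by rintro _ rfl; infer_instance
  haveI : IsIso ((g ∣_ U).appTop) := by
    rw [morphismRestrict_appTop]
    exact @IsIso.comp_isIso _ _ _ _ _ _ _ (happ _ U.ι_image_top) (Functor.map_isIso X.presheaf _)
  exact ((MorphismProperty.isomorphisms Scheme.{u}).arrow_mk_iso_iff (arrowIsoSpecΓOfIsAffine (g ∣_ U))).2
    (inferInstanceAs (IsIso (Spec.map (g ∣_ U).appTop)))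

/-- An integral birational morphism onto a normal scheme is an isomorphism. -/
theorem isIso_of_isIntegralHom [IsIntegralHom g] (h : Bir g)
    (hN : ∀ y : Y, IsIntegrallyClosed (Y.presheaf.stalk y)) : IsIso g := by
  refine isIso_of_app_surjective g h fun U hU x hη hξ => ?_
  haveI : Nonempty U := ⟨⟨_, hη⟩⟩
  haveI := functionField_isFractionRing_of_isAffineOpen Y U hU
  haveI : IsIntegrallyClosed Γ(Y, U) := by
    refine IsIntegrallyClosed.of_localization_maximal fun m _ hm => ?_
    obtain ⟨q, hq⟩ : ∃ q : PrimeSpectrum Γ(Y, U), q.asIdeal = m := ⟨⟨m, hm.isPrime⟩, rfl⟩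
    have hyU : hU.fromSpec q ∈ U := hU.range_fromSpec.subset ⟨q, rfl⟩
    letI := TopCat.Presheaf.algebra_section_stalk Y.presheaf (⟨hU.fromSpec q, hyU⟩ : U)
    haveI := hU.isLocalization_stalk ⟨hU.fromSpec q, hyU⟩
    have e : (hU.primeIdealOf ⟨hU.fromSpec q, hyU⟩).asIdeal = m := by
      rw [← hq]
      exact congrArg PrimeSpectrum.asIdeal (hU.fromSpec.isOpenEmbedding.injective (hU.fromSpec_primeIdealOf _))
    haveI : IsLocalization.AtPrime (Y.presheaf.stalk (hU.fromSpec q)) m := by
      have := hU.isLocalization_stalk ⟨hU.fromSpec q, hyU⟩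
      simp only [e] at this
      exact this
    exact IsIntegrallyClosed.of_equiv
      (IsLocalization.algEquiv m.primeCompl (Y.presheaf.stalk (hU.fromSpec q))
        (Localization.AtPrime m)).toRingEquiv
  haveI := isIso_ff g h
  obtain ⟨w, hw⟩ := (ConcreteCategory.bijective_of_isIso (ff g h)).2
    (X.presheaf.germ (g ⁻¹ᵁ U) (genericPoint X) hξ x)
  have hc : (ff g h).hom.comp (algebraMap Γ(Y, U) Y.functionField) =
      (X.presheaf.germ (g ⁻¹ᵁ U) (genericPoint X) hξ).hom.comp (g.app U).hom := by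
    ext a
    show g.stalkMap (genericPoint X) (Y.presheaf.stalkSpecializes _ (Y.presheaf.germ U (genericPoint Y) hη a)) = _
    rw [TopCat.Presheaf.germ_stalkSpecializes_apply, Scheme.Hom.germ_stalkMap_apply]
    rfl
  obtain ⟨p, hpm, hp⟩ := IsIntegralHom.isIntegral_app g U hU x
  have hint : IsIntegral Γ(Y, U) w := by
    refine ⟨p, hpm, (ConcreteCategory.bijective_of_isIso (ff g h)).1 ?_⟩
    show (ff g h).hom _ = (ff g h).hom 0
    rw [map_zero, Polynomial.hom_eval₂, hc, show (ff g h).hom w = _ from hw, ← Polynomial.hom_eval₂, hp, map_zero]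
  obtain ⟨a, ha⟩ := IsIntegrallyClosed.isIntegral_iff.1 hint
  refine ⟨a, ?_⟩
  haveI : Nonempty (g ⁻¹ᵁ U) := ⟨⟨_, hξ⟩⟩
  refine germ_injective_of_isIntegral _ _ hξ ?_
  have := congrArg (fun φ => φ a) hc
  simp only [RingHom.comp_apply] at this
  exact this.symm.trans ((congrArg (ff g h).hom ha).trans hw)

/-- A separated birational quasi-finite morphism of finite type to a normal scheme is an open immersion. -/
theorem isOpenImmersion_of_quasiFinite [LocallyOfFiniteType g] [IsSeparated g] (h : Bir g)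
    (hN : ∀ y : Y, IsIntegrallyClosed (Y.presheaf.stalk y)) (hq : ∀ x : X, g.QuasiFiniteAt x) :
    IsOpenImmersion g := by
  have key : ∀ x : X, ∃ U : Y.Opens, g x ∈ U ∧ IsIso (g ∣_ U) := fun x => by
    haveI := hN (g x)
    exact exists_isIso_restrict g h x ((ConcreteCategory.isIso_iff_bijective _).2
      ⟨stalkMap_injective g h x, surjective_of_quasiFiniteAt g h x (hq x)⟩)
  choose U hU hi using key
  let W : Y.Opens := ⨆ x, U x
  have hW : ∀ x, g x ∈ W := fun x => Opens.mem_iSup.2 ⟨x, hU x⟩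
  haveI hiso : IsIso (g ∣_ W) := by
    refine (MorphismProperty.isomorphisms.iff (C := Scheme.{u}) (f := g ∣_ W)).1 ?_
    refine (IsZariskiLocalAtTarget.iff_of_iSup_eq_top (P := MorphismProperty.isomorphisms Scheme.{u})
      (fun x => W.ι ⁻¹ᵁ U x) ?_).2 fun x => ?_
    · rw [← Scheme.Hom.preimage_iSup, Scheme.Opens.ι_preimage_self]
    · have hle : U x ≤ W := le_iSup U x
      haveI := hi x
      exact (MorphismProperty.arrow_iso_iff (MorphismProperty.isomorphisms Scheme.{u})
        (morphismRestrictRestrict g W (W.ι ⁻¹ᵁ U x))).2 (by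
          rw [Scheme.Hom.image_preimage_eq_opensRange_inf, Scheme.Opens.opensRange_ι, inf_eq_right.2 hle]
          exact hi x)
  have htop : g ⁻¹ᵁ W = ⊤ := top_le_iff.1 fun x _ => hW x
  haveI : IsIso (g ⁻¹ᵁ W).ι := by rw [htop]; exact inferInstanceAs (IsIso (Scheme.topIso X).hom)
  rw [← IsIso.inv_hom_id_assoc (g ⁻¹ᵁ W).ι g, ← morphismRestrict_ι]
  infer_instance

/-- A flat birational affine morphism surjective on points is an isomorphism. -/
theorem isIso_of_flat_affine [IsAffineHom g] [Flat g] [Surjective g] (h : Bir g) : IsIso g := by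
  refine isIso_of_app_surjective g h fun U hU x hη hξ => ?_
  haveI : Nonempty U := ⟨⟨_, hη⟩⟩
  haveI : Nonempty (g ⁻¹ᵁ U) := ⟨⟨_, hξ⟩⟩
  haveI := functionField_isFractionRing_of_isAffineOpen Y U hU
  haveI := isIso_ff g h
  obtain ⟨w, hw⟩ := (ConcreteCategory.bijective_of_isIso (ff g h)).2
    (X.presheaf.germ (g ⁻¹ᵁ U) (genericPoint X) hξ x)
  obtain ⟨⟨a, s⟩, has⟩ := IsLocalization.surj (nonZeroDivisors Γ(Y, U)) w
  have hc : ∀ b, (ff g h).hom (algebraMap Γ(Y, U) Y.functionField b) =
      X.presheaf.germ (g ⁻¹ᵁ U) (genericPoint X) hξ (g.app U b) := fun b => by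
    show g.stalkMap (genericPoint X) (Y.presheaf.stalkSpecializes _ (Y.presheaf.germ U (genericPoint Y) hη b)) = _
    rw [TopCat.Presheaf.germ_stalkSpecializes_apply, Scheme.Hom.germ_stalkMap_apply]
  have hxs : x * g.app U s = g.app U a := by
    refine germ_injective_of_isIntegral _ _ hξ ?_
    show X.presheaf.germ _ _ hξ (x * _) = _
    rw [map_mul, ← hc, ← hw, ← hc]
    exact (map_mul (ff g h).hom _ _).symm.trans (congrArg (ff g h).hom has)
  haveI : IsAffine (g ⁻¹ᵁ U : Scheme.{u}) := hU.preimage g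
  haveI : IsAffine (U : Scheme.{u}) := hU
  have hff : (g.app U).hom.FaithfullyFlat := by
    have h1 : ((g ∣_ U).appTop).hom.FaithfullyFlat :=
      ((Flat.flat_and_surjective_iff_faithfullyFlat_of_isAffine (g ∣_ U)).1
        ⟨inferInstance, MorphismProperty.of_isPullback (isPullback_morphismRestrict g U).flip ‹Surjective g›⟩)
    have happ : ∀ U' : Y.Opens, U' = U → (g.app U').hom.FaithfullyFlat → (g.app U).hom.FaithfullyFlat := by
      rintro _ rfl; exact id
    refine happ _ U.ι_image_top ?_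
    rw [morphismRestrict_appTop] at h1
    have h2 : ((X.presheaf.map (eqToHom (image_morphismRestrict_preimage g U ⊤)).op).hom.comp
        (g.app (U.ι ''ᵁ ⊤)).hom).FaithfullyFlat := h1
    have := RingHom.FaithfullyFlat.respectsIso.1 _
      ((asIso (X.presheaf.map (eqToHom (image_morphismRestrict_preimage g U ⊤)).op)).commRingCatIsoToRingEquiv.symm) h2
    convert this using 1
    ext b
    exact ((asIso (X.presheaf.map (eqToHom (image_morphismRestrict_preimage g U ⊤)).op)).commRingCatIsoToRingEquiv.symm_apply_apply _).symm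
  algebraize [(g.app U).hom]
  haveI : Module.FaithfullyFlat Γ(Y, U) Γ(X, g ⁻¹ᵁ U) := hff
  have hmem : a ∈ Ideal.span {(s : Γ(Y, U))} := by
    rw [← Ideal.comap_map_eq_self_of_faithfullyFlat (B := Γ(X, g ⁻¹ᵁ U)) (Ideal.span {(s : Γ(Y, U))}),
      Ideal.mem_comap, Ideal.map_span, Set.image_singleton, Ideal.mem_span_singleton']
    exact ⟨x, hxs⟩
  obtain ⟨c, rfl⟩ := Ideal.mem_span_singleton'.1 hmem
  refine ⟨c, germ_injective_of_isIntegral _ _ hξ ?_⟩
  rw [map_mul] at has
  have hs0 : algebraMap Γ(Y, U) Y.functionField s ≠ 0 :=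
    (IsLocalization.map_units Y.functionField s).ne_zero
  rw [← hc, ← mul_right_cancel₀ hs0 has, hw]

end PurBirLib
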