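import Groth.Agent.PurBirLib.Basic

/-! Zariski's main theorem for birational morphisms. -/

set_option autoImplicit false
set_option maxHeartbeats 800000
universe u

noncomputable section

open CategoryTheory AlgebraicGeometry TopologicalSpace

namespace PurBirLib

variable {X Y : Scheme.{u}} [IsIntegral X] [IsIntegral Y] (g : X ⟶ Y) [LocallyOfFiniteType g]

/-- Quasi-finite points over normal points have the same local ring. -/
theorem surjective_of_quasiFiniteAt (h : Bir g) (x : X) [IsIntegrallyClosed (Y.presheaf.stalk (g x))]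
    (hq : g.QuasiFiniteAt x) : Function.Surjective (g.stalkMap x).hom := by
  haveI := isIso_ff g h
  obtain ⟨U, hU, hyU, -⟩ := exists_isAffineOpen_mem_and_subset (x := g x) (U := ⊤) trivial
  obtain ⟨V, hV, hxV, hVU⟩ := exists_isAffineOpen_mem_and_subset (x := x) (U := g ⁻¹ᵁ U) hyU
  have hqq := hq.quasiFiniteAt hV hU hVU hxV
  have hft : (g.appLE U V hVU).hom.FiniteType := g.finiteType_appLE hU hV hVU
  letI := (g.appLE U V hVU).hom.toAlgebra
  haveI : Algebra.FiniteType Γ(Y, U) Γ(X, V) := hft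
  haveI : Algebra.QuasiFiniteAt Γ(Y, U) (hV.primeIdealOf ⟨x, hxV⟩).asIdeal := hqq
  obtain ⟨r, hrp, hr, H⟩ := Algebra.zariskisMainProperty_iff.mp
    (Algebra.ZariskisMainProperty.of_finiteType (R := Γ(Y, U)) (hV.primeIdealOf ⟨x, hxV⟩).asIdeal)
  intro b
  letI : Algebra Γ(X, V) (X.presheaf.stalk x) := (X.presheaf.germ V x hxV).hom.toAlgebra
  haveI := hV.isLocalization_stalk ⟨x, hxV⟩
  obtain ⟨c, ⟨t, ht⟩, rfl⟩ := IsLocalization.exists_mk'_eq (hV.primeIdealOf ⟨x, hxV⟩).asIdeal.primeCompl b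
  have key : ∀ z : Γ(X, V), IsIntegral Γ(Y, U) z →
      ∃ a, g.stalkMap x a = algebraMap Γ(X, V) (X.presheaf.stalk x) z := by
    intro z hz
    obtain ⟨w, hw⟩ := (ConcreteCategory.bijective_of_isIso (ff g h)).2
      (algebraMap (X.presheaf.stalk x) X.functionField (algebraMap Γ(X, V) (X.presheaf.stalk x) z))
    obtain ⟨p, hpm, hp⟩ := hz
    have hint : IsIntegral (Y.presheaf.stalk (g x)) w := by
      refine ⟨p.map (Y.presheaf.germ U (g x) hyU).hom, hpm.map _, ?_⟩
      rw [Polynomial.eval₂_map]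
      refine (ConcreteCategory.bijective_of_isIso (ff g h)).1 ?_
      rw [map_zero]
      show (ff g h).hom _ = 0
      rw [Polynomial.hom_eval₂]
      have hc : ((ff g h).hom.comp ((algebraMap (Y.presheaf.stalk (g x)) Y.functionField).comp
          (Y.presheaf.germ U (g x) hyU).hom)) = ((algebraMap (X.presheaf.stalk x) X.functionField).comp
          (algebraMap Γ(X, V) (X.presheaf.stalk x))).comp (algebraMap Γ(Y, U) Γ(X, V)) := by
        ext u
        show (ff g h).hom (algebraMap _ _ (Y.presheaf.germ U (g x) hyU u)) = _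
        rw [← ff_comm g h]
        refine congrArg (algebraMap (X.presheaf.stalk x) X.functionField) ?_
        show g.stalkMap x (Y.presheaf.germ U (g x) hyU u) = X.presheaf.germ V x hxV (g.appLE U V hVU u)
        rw [Scheme.Hom.germ_stalkMap_apply, Scheme.Hom.appLE, CommRingCat.comp_apply,
          TopCat.Presheaf.germ_res_apply]
      rw [hc, show (ff g h).hom w = ((algebraMap (X.presheaf.stalk x) X.functionField).comp
        (algebraMap Γ(X, V) (X.presheaf.stalk x))) z from hw, ← Polynomial.hom_eval₂, hp, map_zero]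
    obtain ⟨a, ha⟩ := IsIntegrallyClosed.isIntegral_iff.1 hint
    exact ⟨a, IsFractionRing.injective _ X.functionField (by rw [ff_comm g h, ha, hw])⟩
  obtain ⟨m, hm⟩ := H c
  obtain ⟨n, hn⟩ := H t
  obtain ⟨a₁, ha₁⟩ := key _ hm
  obtain ⟨a₂, ha₂⟩ := key _ hn
  obtain ⟨a₃, ha₃⟩ := key r hr
  have hu₃ : IsUnit a₃ := (isUnit_map_iff (g.stalkMap x).hom a₃).1 (by
    rw [show (g.stalkMap x).hom a₃ = _ from ha₃]
    exact IsLocalization.map_units _ (⟨r, hrp⟩ : (hV.primeIdealOf ⟨x, hxV⟩).asIdeal.primeCompl))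
  have hu₂ : IsUnit a₂ := (isUnit_map_iff (g.stalkMap x).hom a₂).1 (by
    rw [show (g.stalkMap x).hom a₂ = _ from ha₂, map_mul]
    exact (IsLocalization.map_units _ (⟨r ^ n, (hV.primeIdealOf ⟨x, hxV⟩).asIdeal.primeCompl.pow_mem hrp n⟩ :
      (hV.primeIdealOf ⟨x, hxV⟩).asIdeal.primeCompl)).mul
      (IsLocalization.map_units _ (⟨t, ht⟩ : (hV.primeIdealOf ⟨x, hxV⟩).asIdeal.primeCompl)))
  refine ⟨a₁ * a₃ ^ n * (↑(hu₂.mul (hu₃.pow m)).unit⁻¹ : Y.presheaf.stalk (g x)), ?_⟩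
  refine (IsUnit.mul_left_inj ((hu₂.mul (hu₃.pow m)).map (g.stalkMap x).hom)).1 ?_
  rw [← map_mul, mul_assoc, IsUnit.val_inv_mul, mul_one, map_mul, map_mul, map_pow, map_pow]
  erw [ha₁, ha₂, ha₃]
  rw [map_mul, map_mul, map_pow, map_pow]
  have := IsLocalization.mk'_spec (X.presheaf.stalk x) c ⟨t, ht⟩
  rw [← this]
  ring

/-- A birational separated morphism with a quasi-finite point over a normal point is an isomorphism
over a neighbourhood of that point. -/
theorem exists_isIso_restrict [IsSeparated g] (h : Bir g) (x : X) (hs : IsIso (g.stalkMap x)) :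
    ∃ U : Y.Opens, g x ∈ U ∧ IsIso (g ∣_ U) := by
  obtain ⟨U, hU, f, hfg, hf, -⟩ := exists_section g h x hs
  have hle : Set.range f ⊆ Set.range (g ⁻¹ᵁ U).ι := by
    rintro _ ⟨a, rfl⟩
    rw [Scheme.Opens.range_ι]
    show g (f a) ∈ U
    rw [← Scheme.Hom.comp_apply, hfg]
    exact a.2
  let s : (U : Scheme.{u}) ⟶ g ⁻¹ᵁ U := IsOpenImmersion.lift (g ⁻¹ᵁ U).ι f hle
  have hs' : s ≫ (g ∣_ U) = 𝟙 _ := by
    rw [← cancel_mono U.ι, Category.assoc, morphismRestrict_ι, IsOpenImmersion.lift_fac_assoc, hfg,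
      Category.id_comp]
  haveI : IsSeparated (g ∣_ U) := MorphismProperty.of_isPullback (isPullback_morphismRestrict g U).flip ‹_›
  haveI : IsClosedImmersion (s ≫ (g ∣_ U)) := by rw [hs']; infer_instance
  haveI : IsClosedImmersion s := IsClosedImmersion.of_comp s (g ∣_ U)
  haveI : Nonempty U := ⟨⟨g x, hU⟩⟩
  haveI : Nonempty (g ⁻¹ᵁ U) := ⟨s ⟨g x, hU⟩⟩
  haveI : IsIntegral (g ⁻¹ᵁ U : Scheme.{u}) := isIntegral_of_isOpenImmersion (g ⁻¹ᵁ U).ι
  haveI : IsOpenImmersion (s ≫ (g ⁻¹ᵁ U).ι) := by rw [IsOpenImmersion.lift_fac]; exact hf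
  haveI : IsOpenImmersion s := IsOpenImmersion.of_comp s (g ⁻¹ᵁ U).ι
  haveI : Surjective s := ⟨Set.range_eq_univ.1 (IsClopen.eq_univ
    ⟨s.isClosedEmbedding.isClosed_range, s.isOpenEmbedding.isOpen_range⟩ ⟨_, ⟨g x, hU⟩, rfl⟩)⟩
  haveI : IsIso s := (isIso_iff_isOpenImmersion_and_surjective (f := s)).2 ⟨inferInstance, inferInstance⟩
  refine ⟨U, hU, ?_⟩
  haveI : IsIso (s ≫ (g ∣_ U)) := by rw [hs']; infer_instance
  exact IsIso.of_isIso_comp_left s (g ∣_ U)

end PurBirLib
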