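import Groth.Agent.PurBirLib.Qf
import Mathlib

/-! Birational morphisms over normal points of codimension at most one. -/

set_option autoImplicit false
universe u

noncomputable section

open CategoryTheory AlgebraicGeometry TopologicalSpace

namespace PurBirLib

variable {X Y : Scheme.{u}} [IsIntegral X] [IsIntegral Y] (g : X ⟶ Y)

/-- Over a valuation ring a birational morphism is an isomorphism on stalks. -/
theorem surjective_of_valuationRing (h : Bir g) (x : X) [ValuationRing (Y.presheaf.stalk (g x))] :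
    Function.Surjective (g.stalkMap x).hom := by
  intro b
  haveI := isIso_ff g h
  obtain ⟨w, hw⟩ := (ConcreteCategory.bijective_of_isIso (ff g h)).2
    (algebraMap (X.presheaf.stalk x) X.functionField b)
  rcases ValuationRing.isInteger_or_isInteger (Y.presheaf.stalk (g x)) w with ⟨a, ha⟩ | ⟨a, ha⟩
  · exact ⟨a, IsFractionRing.injective _ X.functionField (by rw [ff_comm g h, ha, hw])⟩
  · by_cases hw0 : w = 0
    · refine ⟨0, IsFractionRing.injective (X.presheaf.stalk x) X.functionField ?_⟩
      rw [map_zero, map_zero, ← hw, hw0]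
      exact (map_zero (ff g h).hom).symm
    · have hab : g.stalkMap x a * b = 1 := by
        refine IsFractionRing.injective (X.presheaf.stalk x) X.functionField ?_
        rw [map_mul, map_one, ff_comm g h, ha, ← hw]
        refine (map_mul (ff g h).hom w⁻¹ w).symm.trans ?_
        rw [inv_mul_cancel₀ hw0, map_one]
      obtain ⟨a', rfl⟩ : IsUnit a := (isUnit_map_iff (g.stalkMap x).hom a).1 (IsUnit.of_mul_eq_one _ hab)
      refine ⟨(↑a'⁻¹ : Y.presheaf.stalk (g x)), ?_⟩
      calc (g.stalkMap x).hom (↑a'⁻¹) = (g.stalkMap x).hom ↑a'⁻¹ * (g.stalkMap x (↑a') * b) := by rw [hab, mul_one]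
        _ = b := by
          rw [← mul_assoc]
          show (g.stalkMap x).hom _ * (g.stalkMap x).hom _ * b = b
          rw [← map_mul, Units.inv_mul, map_one, one_mul]

/-- Normal local rings of dimension at most one are valuation rings. -/
theorem valuationRing_of_dim_le_one {A : Type u} [CommRing A] [IsNoetherianRing A] [IsLocalRing A] [IsDomain A]
    [IsIntegrallyClosed A] (hA : ringKrullDim A ≤ 1) : ValuationRing A := by
  haveI : Ring.KrullDimLE 1 A := Ring.krullDimLE_iff.2 hA
  have h := (tfae_of_isNoetherianRing_of_isLocalRing_of_isDomain A).out 3 1 (a := IsIntegrallyClosed A ∧ ∀ P : Ideal A, P ≠ ⊥ → P.IsPrime → P = IsLocalRing.maximalIdeal A) (b := ValuationRing A) rfl rfl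
  exact h.1
    ⟨inferInstance, fun P hP hP' => IsLocalRing.eq_maximalIdeal
      (Ring.krullDimLE_one_iff_of_noZeroDivisors.1 ‹_› P hP hP')⟩

/-- A proper birational morphism to a normal scheme is an isomorphism near codimension one. -/
theorem exists_isIso_nhd_of_dim_le_one [IsLocallyNoetherian Y] [IsProper g] (h : Bir g) (y : Y)
    [IsIntegrallyClosed (Y.presheaf.stalk y)] (hy : ringKrullDim (Y.presheaf.stalk y) ≤ 1) :
    ∃ U : Y.Opens, y ∈ U ∧ IsIso (g ∣_ U) := by
  obtain ⟨x, rfl⟩ : y ∈ Set.range g.base :=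
    ((genericPoint_spec Y).specializes trivial).mem_closed g.isClosedMap.isClosed_range
      ⟨genericPoint X, h.1⟩
  haveI := valuationRing_of_dim_le_one hy
  exact exists_isIso_restrict g h x ((ConcreteCategory.isIso_iff_bijective _).2
    ⟨stalkMap_injective g h x, surjective_of_valuationRing g h x⟩)

/-- The isomorphism locus of a proper birational morphism to a normal scheme. -/
theorem exists_isoLocus [IsLocallyNoetherian Y] [IsProper g] (h : Bir g)
    (hN : ∀ y : Y, IsIntegrallyClosed (Y.presheaf.stalk y)) :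
    ∃ V : Y.Opens, IsIso (g ∣_ V) ∧
      (∀ y : Y, y ∉ V → ∀ x : ↥(g.fiber y), ¬ IsOpen ({x} : Set ↥(g.fiber y))) ∧
      (∀ y : Y, y ∉ V → 2 ≤ ringKrullDim (Y.presheaf.stalk y)) := by
  let S : Set Y.Opens := {U | IsIso (g ∣_ U)}
  let V : Y.Opens := ⨆ U : S, (U : Y.Opens)
  have hmem : ∀ (y : Y) (U : Y.Opens), y ∈ U → IsIso (g ∣_ U) → y ∈ V := fun y U hy hU =>
    Opens.mem_iSup.2 ⟨⟨U, hU⟩, hy⟩
  refine ⟨V, ?_, fun y hy x hx => ?_, fun y hy => ?_⟩
  · refine (MorphismProperty.isomorphisms.iff (C := Scheme.{u}) (f := g ∣_ V)).1 ?_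
    refine (IsZariskiLocalAtTarget.iff_of_iSup_eq_top (P := MorphismProperty.isomorphisms Scheme.{u})
      (fun U : S => V.ι ⁻¹ᵁ U.1) ?_).2 fun U => ?_
    · rw [← Scheme.Hom.preimage_iSup, Scheme.Opens.ι_preimage_self]
    · have hle : U.1 ≤ V := le_iSup (fun U : S => (U : Y.Opens)) U
      exact (MorphismProperty.arrow_iso_iff (MorphismProperty.isomorphisms Scheme.{u})
        (morphismRestrictRestrict g V (V.ι ⁻¹ᵁ U.1))).2 (by
          rw [Scheme.Hom.image_preimage_eq_opensRange_inf, Scheme.Opens.opensRange_ι, inf_eq_right.2 hle]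
          exact U.2)
  · obtain ⟨z, hz⟩ : ∃ z, z = g.fiberι y x := ⟨_, rfl⟩
    have hzy : g z = y := (g.range_fiberι y).subset ⟨x, hz.symm⟩
    subst hzy
    have hq : g.QuasiFiniteAt z := by
      rw [Scheme.Hom.quasiFiniteAt_iff_isOpen_singleton_asFiber]
      rw [show g.asFiber z = x from (g.fiberι _).isEmbedding.injective ((g.fiberι_asFiber _).trans hz)]
      exact hx
    haveI := hN (g z)
    obtain ⟨U, hU, hi⟩ := exists_isIso_restrict g h z ((ConcreteCategory.isIso_iff_bijective _).2
      ⟨stalkMap_injective g h z, surjective_of_quasiFiniteAt g h z hq⟩)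
    exact hy (hmem _ U hU hi)
  · by_contra hlt
    haveI := hN y
    have hle : ringKrullDim (Y.presheaf.stalk y) ≤ 1 := by
      obtain ⟨e, he⟩ := WithBot.ne_bot_iff_exists.1 (ringKrullDim_ne_bot (R := Y.presheaf.stalk y))
      rw [← he] at hlt ⊢
      have he2 : e < 2 := WithBot.coe_lt_coe.1 (not_le.1 hlt)
      exact WithBot.coe_le_coe.2 (Order.le_of_lt_succ (by
        rw [ENat.succ_def]
        exact he2.trans_eq (by norm_num)))
    obtain ⟨U, hU, hi⟩ := exists_isIso_nhd_of_dim_le_one g h y hle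
    exact hy (hmem _ U hU hi)

end PurBirLib
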