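import Groth.Agent.AffCodimLib.Scheme
import Mathlib

/-! Birational morphisms of integral schemes: injectivity on stalks, local isomorphisms. -/

set_option autoImplicit false
set_option maxHeartbeats 800000
universe u

noncomputable section

open CategoryTheory AlgebraicGeometry TopologicalSpace

namespace PurBirLib

/-- The points where `g` is a local isomorphism. -/
def Iso {X Y : Scheme.{u}} (g : X ⟶ Y) (x : X) : Prop := ∃ W : X.Opens, x ∈ W ∧ IsOpenImmersion (W.ι ≫ g)

variable {X Y : Scheme.{u}} (g : X ⟶ Y)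

theorem isIso_stalkMap_of_iso {x : X} (h : Iso g x) : IsIso (g.stalkMap x) := by
  obtain ⟨W, hx, hW⟩ := h
  have : IsIso (g.stalkMap (W.ι ⟨x, hx⟩) ≫ W.ι.stalkMap ⟨x, hx⟩) :=
    Scheme.Hom.stalkMap_comp W.ι g ⟨x, hx⟩ ▸ inferInstanceAs (IsIso ((W.ι ≫ g).stalkMap ⟨x, hx⟩))
  exact IsIso.of_isIso_comp_right (g.stalkMap (W.ι ⟨x, hx⟩)) (W.ι.stalkMap ⟨x, hx⟩)

variable [IsIntegral X] [IsIntegral Y]

/-- `g` is birational. -/
def Bir : Prop := g (genericPoint X) = genericPoint Y ∧ IsIso (g.stalkMap (genericPoint X))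

/-- An open immersion on a nonempty open subset gives a birational morphism. -/
theorem bir_of_open (h : ∃ W : X.Opens, (W : Set X).Nonempty ∧ IsOpenImmersion (W.ι ≫ g)) : Bir g := by
  obtain ⟨W, hne, hW⟩ := h
  refine ⟨?_, isIso_stalkMap_of_iso g
    ⟨W, ((genericPoint_spec X).mem_open_set_iff W.2).2 (by simpa using hne), hW⟩⟩
  haveI : Nonempty W := hne.to_subtype
  haveI : IsIntegral (W : Scheme) := isIntegral_of_isOpenImmersion W.ι
  have h1 : W.ι (genericPoint W.toScheme) = genericPoint X :=
    genericPoint_eq_of_isOpenImmersion W.ι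
  have h2 := genericPoint_eq_of_isOpenImmersion (W.ι ≫ g)
  rw [Scheme.Hom.comp_apply, h1] at h2
  exact h2

theorem map_generic (h : Bir g) : g (genericPoint X) = genericPoint Y := h.1

omit [IsIntegral Y] in
theorem iso_generic (h : ∃ W : X.Opens, (W : Set X).Nonempty ∧ IsOpenImmersion (W.ι ≫ g)) :
    Iso g (genericPoint X) := by
  obtain ⟨W, hne, hW⟩ := h
  exact ⟨W, ((genericPoint_spec X).mem_open_set_iff W.2).2 (by simpa using hne), hW⟩

/-- The isomorphism of function fields. -/
def ff (h : Bir g) : Y.functionField ⟶ X.functionField :=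
  Y.presheaf.stalkSpecializes (specializes_of_eq (map_generic g h)) ≫ g.stalkMap (genericPoint X)

theorem isIso_ff (h : Bir g) : IsIso (ff g h) := by
  haveI := h.2
  haveI : IsIso (Y.presheaf.stalkSpecializes (specializes_of_eq (map_generic g h))) :=
    (Y.presheaf.stalkCongr (Inseparable.of_eq (map_generic g h).symm)).isIso_hom
  exact IsIso.comp_isIso

theorem ff_comm (h : Bir g) (x : X) (a : Y.presheaf.stalk (g x)) :
    algebraMap (X.presheaf.stalk x) X.functionField (g.stalkMap x a) =
      ff g h (algebraMap (Y.presheaf.stalk (g x)) Y.functionField a) := by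
  have hx : genericPoint X ⤳ x := (genericPoint_spec X).specializes trivial
  show X.presheaf.stalkSpecializes hx (g.stalkMap x a) =
    g.stalkMap (genericPoint X) (Y.presheaf.stalkSpecializes _ (Y.presheaf.stalkSpecializes _ a))
  rw [← Scheme.Hom.stalkSpecializes_stalkMap_apply g (genericPoint X) x hx a]
  congr 1
  rw [← CommRingCat.comp_apply (f := Y.presheaf.stalkSpecializes _),
    TopCat.Presheaf.stalkSpecializes_comp]

theorem stalkMap_injective (h : Bir g) (x : X) : Function.Injective (g.stalkMap x).hom := by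
  intro a b hab
  haveI := isIso_ff g h
  refine IsFractionRing.injective (Y.presheaf.stalk (g x)) Y.functionField
    ((ConcreteCategory.bijective_of_isIso (ff g h)).1 ?_)
  rw [← ff_comm g h x a, ← ff_comm g h x b]
  exact congrArg _ hab

omit [IsIntegral Y] in
/-- A point whose stalk is a field is the generic point. -/
theorem eq_generic_of_isField {x : X} (h : IsField (X.presheaf.stalk x)) : x = genericPoint X := by
  obtain ⟨p, hp⟩ := X.range_fromSpecStalk.ge
    (show genericPoint X ⤳ x from (genericPoint_spec X).specializes trivial)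
  have e : p = IsLocalRing.closedPoint _ := by
    refine PrimeSpectrum.ext ?_
    show p.asIdeal = IsLocalRing.maximalIdeal _
    rw [IsLocalRing.isField_iff_maximalIdeal_eq.1 h]
    exact le_bot_iff.1 ((IsLocalRing.le_maximalIdeal p.isPrime.ne_top).trans_eq
      (IsLocalRing.isField_iff_maximalIdeal_eq.1 h))
  rw [e, Scheme.fromSpecStalk_closedPoint] at hp
  exact hp

/-- Only the generic point lies over the generic point. -/
theorem eq_generic_of_map_generic (h : Bir g) {x : X} (hx : g x = genericPoint Y) : x = genericPoint X := by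
  haveI := isIso_ff g h
  refine eq_generic_of_isField ?_
  have hb : Function.Bijective (algebraMap (Y.presheaf.stalk (g x)) Y.functionField) :=
    ConcreteCategory.bijective_of_isIso (Y.presheaf.stalkCongr (Inseparable.of_eq hx)).hom
  have hsurj : Function.Surjective (algebraMap (X.presheaf.stalk x) X.functionField) := fun z => by
    obtain ⟨w, rfl⟩ := (ConcreteCategory.bijective_of_isIso (ff g h)).2 z
    obtain ⟨a, rfl⟩ := hb.2 w
    exact ⟨g.stalkMap x a, ff_comm g h x a⟩
  exact MulEquiv.isField (Field.toIsField X.functionField)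
    (RingEquiv.ofBijective _ ⟨IsFractionRing.injective _ _, hsurj⟩).toMulEquiv

/-- A birational morphism which is an isomorphism on the stalk at `x` is a local isomorphism at `x`. -/
theorem exists_section [LocallyOfFiniteType g] (h : Bir g) (x : X) (hx : IsIso (g.stalkMap x)) :
    ∃ (U : Y.Opens) (hy : g x ∈ U) (f : (U : Scheme.{u}) ⟶ X),
      f ≫ g = U.ι ∧ IsOpenImmersion f ∧ f ⟨g x, hy⟩ = x := by
  obtain ⟨U, hyU, f, hf, hfg⟩ := spread_out_of_isGermInjective (𝟙 Y) g (x := g x) (y := x) rfl
    (inv (g.stalkMap x)) (by simp)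
  haveI : IsImmersion (f ≫ g) := by rw [hfg, Category.comp_id]; infer_instance
  haveI : IsImmersion f := IsImmersion.of_comp f g
  have hfx : f ⟨g x, hyU⟩ = x := by
    have e1 := congrArg (fun φ : Spec (Y.presheaf.stalk (g x)) ⟶ Y => φ (IsLocalRing.closedPoint _))
      (U.fromSpecStalkOfMem_ι (g x) hyU)
    simp only [Scheme.Hom.comp_apply, Scheme.fromSpecStalk_closedPoint] at e1
    have e2 : U.fromSpecStalkOfMem (g x) hyU (IsLocalRing.closedPoint _) = ⟨g x, hyU⟩ := Subtype.ext e1
    have := congrArg (fun φ : Spec (Y.presheaf.stalk (g x)) ⟶ X => φ (IsLocalRing.closedPoint _)) hf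
    simp only [Scheme.Hom.comp_apply] at this
    rw [e2, Spec_closedPoint, Scheme.fromSpecStalk_closedPoint] at this
    exact this.symm
  have hη : genericPoint Y ∈ U := ((genericPoint_spec Y).specializes trivial).mem_open U.2 hyU
  have hgη : f ⟨genericPoint Y, hη⟩ = genericPoint X := by
    refine eq_generic_of_map_generic g h ?_
    have := congrArg (fun φ : (U : Scheme.{u}) ⟶ Y => φ ⟨genericPoint Y, hη⟩) hfg
    simpa using this
  haveI : IsDominant f := ⟨by
    rw [DenseRange, dense_iff_closure_eq]
    refine Set.univ_subset_iff.1 ((genericPoint_spec X).symm.le.trans (closure_mono ?_))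
    exact Set.singleton_subset_iff.2 ⟨_, hgη⟩⟩
  haveI : IsOpenImmersion f := by
    haveI : Surjective f.liftCoborder := ⟨fun z => by
      have h1 : f.liftCoborder ⟨genericPoint Y, hη⟩ ⤳ z := by
        rw [← f.coborderRange.ι.isOpenEmbedding.toIsEmbedding.toIsInducing.specializes_iff, ← Scheme.Hom.comp_apply,
          Scheme.Hom.liftCoborder_ι, hgη]
        exact (genericPoint_spec X).specializes trivial
      exact h1.mem_closed f.liftCoborder.isClosedEmbedding.isClosed_range ⟨_, rfl⟩⟩
    haveI := isIso_of_isClosedImmersion_of_surjective f.liftCoborder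
    rw [← f.liftCoborder_ι]
    infer_instance
  exact ⟨U, hyU, f, by rw [hfg, Category.comp_id], inferInstance, hfx⟩

theorem iso_of_isIso_stalkMap [LocallyOfFiniteType g] (h : Bir g) (x : X)
    (hx : IsIso (g.stalkMap x)) : Iso g x := by
  obtain ⟨U, hyU, f, hfg, hf, hfx⟩ := exists_section g h x hx
  haveI : IsOpenImmersion ((f.isoOpensRange).inv ≫ U.ι) := inferInstance
  refine ⟨f.opensRange, ⟨⟨g x, hyU⟩, hfx⟩, ?_⟩
  have : f.opensRange.ι ≫ g = f.isoOpensRange.inv ≫ U.ι := by
    rw [Iso.eq_inv_comp, Scheme.Hom.isoOpensRange_hom_ι_assoc, hfg]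
  rw [this]
  infer_instance

end PurBirLib
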