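import Groth.Agent.PurBirLib.Basic
import Groth.Agent.WeightLib.EtaleQF
import Mathlib

/-! An étale separated birational morphism of integral schemes is an open immersion. -/

set_option autoImplicit false
universe u

noncomputable section

open CategoryTheory CategoryTheory.Limits AlgebraicGeometry

namespace PurBirLib

theorem isOpenImmersion_of_etale {X Y : Scheme.{u}} [IsIntegral X] [IsIntegral Y] (f : X ⟶ Y) [Etale f]
    [IsSeparated f] (hgen : f (genericPoint X) = genericPoint Y)
    (hbir : Function.Bijective (f.residueFieldMap (genericPoint X)).hom) : IsOpenImmersion f := by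
  haveI : LocallyQuasiFinite f := WeightLib.locallyQuasiFinite_of_etale f
  have hflat : ∀ x : X, f x = genericPoint Y → x = genericPoint X := by
    intro x hx
    haveI : DiscreteTopology (f ⁻¹' {genericPoint Y}) :=
      isDiscrete_iff_discreteTopology.1 (f.isDiscrete_preimage_singleton _)
    have hs : (⟨genericPoint X, hgen⟩ : f ⁻¹' {genericPoint Y}) ⤳ ⟨x, hx⟩ := by
      rw [← Topology.IsInducing.subtypeVal.specializes_iff]
      exact (genericPoint_spec X).specializes trivial
    exact (congrArg Subtype.val hs.eq).symm
  haveI : IsIso (f.residueFieldMap (genericPoint X)) := (ConcreteCategory.isIso_iff_bijective _).2 hbir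
  have huniq : ∀ z z' : ↑(pullback f f), pullback.fst f f z = genericPoint X →
      pullback.fst f f z' = genericPoint X → z = z' := by
    intro z z' hz hz'
    have hsnd : ∀ w : ↑(pullback f f), pullback.fst f f w = genericPoint X →
        pullback.snd f f w = genericPoint X := fun w hw => hflat _ (by
      rw [← Scheme.Hom.comp_apply, ← pullback.condition, Scheme.Hom.comp_apply, hw, hgen])
    let T : Scheme.Pullback.Triplet f f :=
      { x := genericPoint X, y := genericPoint X, s := f (genericPoint X), hx := rfl, hy := rfl }
    have key : ∀ w : ↑(pullback f f), pullback.fst f f w = genericPoint X →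
        ∃ p, w = Scheme.Pullback.carrierEquiv.symm ⟨T, p⟩ := by
      intro w hw
      obtain ⟨⟨T', p⟩, rfl⟩ := Scheme.Pullback.carrierEquiv.symm.surjective w
      have hT : T' = T := by
        refine Scheme.Pullback.Triplet.ext ?_ ?_
        · rw [← Scheme.Pullback.carrierEquiv_symm_fst T' p, hw]
        · rw [← Scheme.Pullback.carrierEquiv_symm_snd T' p, hsnd _ hw]
      subst hT
      exact ⟨p, rfl⟩
    obtain ⟨p, rfl⟩ := key z hz
    obtain ⟨q, rfl⟩ := key z' hz'
    haveI : IsIso T.tensorInl := by
      have hr : (T.y = genericPoint X) := rfl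
      show IsIso (pushout.inl _ _)
      haveI : IsIso ((Y.residueFieldCongr T.hy).inv ≫ f.residueFieldMap T.y) := by
        show IsIso ((Y.residueFieldCongr T.hy).inv ≫ f.residueFieldMap (genericPoint X))
        infer_instance
      infer_instance
    haveI : Subsingleton (Spec T.tensor) :=
      (Scheme.homeoOfIso (asIso (Spec.map T.tensorInl))).injective.subsingleton
    rw [Subsingleton.elim p q]
  have hsurj : Function.Surjective (pullback.diagonal f) := by
    intro z
    by_contra hz
    simp only [not_exists] at hz
    let O : Set ↑(pullback f f) := (Set.range (pullback.diagonal f))ᶜ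
    have hO : IsOpen O := (pullback.diagonal f).isClosedEmbedding.isClosed_range.isOpen_compl
    have him : IsOpen (pullback.fst f f '' O) := (pullback.fst f f).isOpenMap _ hO
    obtain ⟨w, hw, hwξ⟩ := ((genericPoint_spec X).mem_open_set_iff him).2
      ⟨_, trivial, z, fun ⟨x, hx⟩ => hz x hx, rfl⟩
    refine hw ⟨genericPoint X, (huniq _ _ ?_ hwξ)⟩
    rw [← Scheme.Hom.comp_apply, pullback.diagonal_fst]
    rfl
  haveI : Surjective (pullback.diagonal f) := ⟨hsurj⟩
  haveI : IsOpenImmersion (pullback.diagonal f) := inferInstance
  haveI : IsIso (pullback.diagonal f) := (isIso_iff_isOpenImmersion_and_surjective (f := pullback.diagonal f)).2 ⟨inferInstance, inferInstance⟩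
  haveI : Mono f := by
    rw [← pullback.isIso_diagonal_iff]
    infer_instance
  exact IsOpenImmersion.of_flat_of_mono f

end PurBirLib
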